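import Mathlib.AlgebraicGeometry.Modules.Sheaf
import Mathlib.Topology.Sheaves.SheafCondition.UniqueGluing

/-!
The unit of restriction to an open and closed subscheme splits.
-/

universe u

open CategoryTheory CategoryTheory.Limits AlgebraicGeometry TopologicalSpace Opposite

set_option linter.style.haveILetI false
set_option backward.isDefEq.respectTransparency false
set_option backward.isDefEq.respectTransparency.types false

namespace Groth.Agent.EtSplit19

variable {X P : Scheme.{u}} (Δ : X ⟶ P) [IsOpenImmersion Δ] (N : P.Modules)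

/-- the sheaf of abelian groups of a module -/
noncomputable def ab : TopCat.Sheaf Ab.{u} P.toTopCat := ⟨N.presheaf, N.isSheaf⟩

/-- the complement -/
def compl (hcl : IsClosed (Set.range Δ.base)) : P.Opens := ⟨(Set.range Δ.base)ᶜ, hcl.isOpen_compl⟩

variable (hcl : IsClosed (Set.range Δ.base))

/-- the two pieces of an open -/
def piece (O : P.Opens) : ULift.{u} Bool → P.Opens
  | ⟨true⟩ => Δ ''ᵁ Δ ⁻¹ᵁ O
  | ⟨false⟩ => O ⊓ compl Δ hcl

theorem piece_le (O : P.Opens) : ∀ i, piece Δ hcl O i ≤ O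
  | ⟨true⟩ => Δ.image_preimage_le O
  | ⟨false⟩ => inf_le_left

theorem le_iSup_piece (O : P.Opens) : O ≤ iSup (piece Δ hcl O) := by
  intro x hx
  rw [Opens.mem_iSup]
  by_cases h : x ∈ Set.range Δ.base
  · obtain ⟨y, rfl⟩ := h
    exact ⟨⟨true⟩, ⟨y, hx, rfl⟩⟩
  · exact ⟨⟨false⟩, hx, h⟩

theorem disjoint_piece (O : P.Opens) : (Δ ''ᵁ Δ ⁻¹ᵁ O) ⊓ (O ⊓ compl Δ hcl) = ⊥ := by
  rw [eq_bot_iff]
  rintro x ⟨⟨y, -, rfl⟩, -, h⟩
  exact absurd ⟨y, rfl⟩ h

theorem eq_of_res (O : P.Opens) (s t : Γ(N, O))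
    (h1 : N.presheaf.map (homOfLE (Δ.image_preimage_le O)).op s = N.presheaf.map (homOfLE (Δ.image_preimage_le O)).op t)
    (h2 : N.presheaf.map (homOfLE (inf_le_left : O ⊓ compl Δ hcl ≤ O)).op s =
      N.presheaf.map (homOfLE (inf_le_left : O ⊓ compl Δ hcl ≤ O)).op t) : s = t := by
  refine (ab N).eq_of_locally_eq' (piece Δ hcl O) O (fun i => homOfLE (piece_le Δ hcl O i))
    (le_iSup_piece Δ hcl O) s t ?_
  rintro ⟨_ | _⟩
  · exact h2
  · exact h1

theorem exists_ext_zero (O : P.Opens) (m : Γ(N, Δ ''ᵁ Δ ⁻¹ᵁ O)) :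
    ∃ t : Γ(N, O), N.presheaf.map (homOfLE (Δ.image_preimage_le O)).op t = m ∧
      N.presheaf.map (homOfLE (inf_le_left : O ⊓ compl Δ hcl ≤ O)).op t = 0 := by
  let sf : ∀ i, ToType ((ab N).1.obj (op (piece Δ hcl O i))) := fun i => match i with
    | ⟨true⟩ => m
    | ⟨false⟩ => (0 : Γ(N, O ⊓ compl Δ hcl))
  have hsub : ∀ W : P.Opens, W ≤ ⊥ → Subsingleton Γ(N, W) := fun W hW => by
    obtain rfl : W = ⊥ := eq_bot_iff.2 hW
    refine ⟨fun a b => (ab N).eq_of_locally_eq' (fun i : PEmpty.{u+1} => i.elim) ⊥ (fun i => i.elim) bot_le a b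
      fun i => i.elim⟩
  have hcomp : TopCat.Presheaf.IsCompatible (ab N).1 (piece Δ hcl O) sf := by
    rintro ⟨_ | _⟩ ⟨_ | _⟩
    · rfl
    · exact @Subsingleton.elim _ (hsub _ (by rw [inf_comm]; exact (disjoint_piece Δ hcl O).le)) _ _
    · exact @Subsingleton.elim _ (hsub _ (disjoint_piece Δ hcl O).le) _ _
    · rfl
  obtain ⟨t, ht, -⟩ := (ab N).existsUnique_gluing' (piece Δ hcl O) O (fun i => homOfLE (piece_le Δ hcl O i))
    (le_iSup_piece Δ hcl O) sf hcomp
  exact ⟨t, ht ⟨true⟩, ht ⟨false⟩⟩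

/-- extension by zero -/
noncomputable def extZero (O : P.Opens) (m : Γ(N, Δ ''ᵁ Δ ⁻¹ᵁ O)) : Γ(N, O) := (exists_ext_zero Δ N hcl O m).choose

theorem extZero_res (O : P.Opens) (m : Γ(N, Δ ''ᵁ Δ ⁻¹ᵁ O)) :
    N.presheaf.map (homOfLE (Δ.image_preimage_le O)).op (extZero Δ N hcl O m) = m :=
  (exists_ext_zero Δ N hcl O m).choose_spec.1

theorem extZero_res' (O : P.Opens) (m : Γ(N, Δ ''ᵁ Δ ⁻¹ᵁ O)) :
    N.presheaf.map (homOfLE (inf_le_left : O ⊓ compl Δ hcl ≤ O)).op (extZero Δ N hcl O m) = 0 :=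
  (exists_ext_zero Δ N hcl O m).choose_spec.2

/-- extension by zero, additively -/
noncomputable def extZeroHom (O : P.Opens) :
    Γ((Scheme.Modules.pushforward Δ).obj ((Scheme.Modules.restrictFunctor Δ).obj N), O) ⟶ Γ(N, O) :=
  AddCommGrpCat.ofHom
    { toFun := fun m => extZero Δ N hcl O m
      map_zero' := eq_of_res Δ N hcl O _ _ (by rw [extZero_res, map_zero]) (by rw [extZero_res', map_zero])
      map_add' := fun a b => eq_of_res Δ N hcl O _ _ (by rw [extZero_res, map_add, extZero_res, extZero_res])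
        (by rw [extZero_res', map_add, extZero_res', extZero_res', add_zero]) }

include hcl in
theorem isSplitEpi_unit : IsSplitEpi ((Scheme.Modules.restrictAdjunction Δ).unit.app N) := by
    let M := (Scheme.Modules.pushforward Δ).obj ((Scheme.Modules.restrictFunctor Δ).obj N)
    let η : N ⟶ M := (Scheme.Modules.restrictAdjunction Δ).unit.app N
    have hη : ∀ (O : P.Opens) (t : Γ(N, O)), η.app O t = N.presheaf.map (homOfLE (Δ.image_preimage_le O)).op t :=
      fun O t => rfl
    have hnat : ∀ {U V : P.Opens} (i : V ⟶ U) (m : Γ(M, U)),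
        extZero Δ N hcl V (M.presheaf.map i.op m) = N.presheaf.map i.op (extZero Δ N hcl U m) := fun {U V} i m => by
      refine eq_of_res Δ N hcl V _ _ ?_ ?_
      · refine (extZero_res Δ N hcl V _).trans ?_
        refine Eq.trans ?_ (hη V _)
        refine Eq.trans ?_ (congrArg (fun f => f (extZero Δ N hcl U m)) (η.mapPresheaf.naturality i.op)).symm
        exact congrArg (M.presheaf.map i.op) (extZero_res Δ N hcl U m).symm
      · rw [extZero_res', ← CategoryTheory.comp_apply, ← Functor.map_comp, ← op_comp,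
          Subsingleton.elim (homOfLE (inf_le_left : V ⊓ compl Δ hcl ≤ V) ≫ i)
            (homOfLE (inf_le_inf_right _ i.le : V ⊓ compl Δ hcl ≤ U ⊓ compl Δ hcl) ≫ homOfLE inf_le_left),
          op_comp, Functor.map_comp, CategoryTheory.comp_apply, extZero_res', map_zero]
    let φ : M.presheaf ⟶ N.presheaf :=
      { app := fun O => extZeroHom Δ N hcl O.unop
        naturality := fun U V i => by
          ext m
          exact hnat i.unop m }
    let s : M ⟶ N := (Scheme.Modules.fullyFaithfulToPresheafOfModules (X := P)).preimage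
      (PresheafOfModules.homMk (M₁ := M.val) (M₂ := N.val) φ fun O r m => by
        refine eq_of_res Δ N hcl O.unop _ _ ?_ ?_
        · refine (extZero_res Δ N hcl O.unop _).trans ?_
          refine Eq.trans ?_ (hη O.unop _)
          refine Eq.trans ?_ (η.app_smul r _).symm
          exact congrArg (r • ·) (extZero_res Δ N hcl O.unop m).symm
        · refine (extZero_res' Δ N hcl O.unop _).trans ?_
          refine Eq.trans ?_ (N.map_smul _ r _).symm
          exact ((congrArg (_ • ·) (extZero_res' Δ N hcl O.unop m)).trans (smul_zero _)).symm)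
    exact IsSplitEpi.mk' ⟨s, by
      apply Scheme.Modules.hom_ext
      intro O
      ext m
      exact (hη O _).trans (extZero_res Δ N hcl O m)⟩

end Groth.Agent.EtSplit19
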